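import Groth.Agent.Props.Components
import Groth.Agent.NormalSec.Basic
import Groth.Agent.QCoh.Basic
import Groth.Prelude.Def_Pi1
import Mathlib.AlgebraicGeometry.Morphisms.Proper
import Mathlib.AlgebraicGeometry.Noetherian

/-!
Proper morphisms with `O_Y ≅ f_* O_X`: surjective, and integrality / normality descend.
-/

set_option linter.style.haveILetI false

universe u

open CategoryTheory AlgebraicGeometry TopologicalSpace Opposite

namespace Groth.Agent.Fibration

variable {X Y : Scheme.{u}} (f : X ⟶ Y)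

theorem bijective_app (h : ∀ V : Y.Opens, IsIso (f.app V)) (V : Y.Opens) :
    Function.Bijective (f.app V) :=
  haveI := h V; ConcreteCategory.bijective_of_isIso _

theorem isProper_of_over {S : Scheme.{u}} (p : X ⟶ S) (q : Y ⟶ S) [IsProper p] [IsSeparated q]
    (hf : f ≫ q = p) : IsProper f := by
  have : IsProper (f ≫ q) := by rw [hf]; infer_instance
  exact IsProper.of_comp f q

theorem surjective_of_fibration [IsProper f] (h : ∀ V : Y.Opens, IsIso (f.app V)) : Surjective f := by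
  constructor
  intro y
  by_contra hy
  let V : Y.Opens := ⟨(Set.range f)ᶜ, f.isClosedMap.isClosed_range.isOpen_compl⟩
  have hbot : f ⁻¹ᵁ V = ⊥ := le_bot_iff.mp fun x hx => hx ⟨x, rfl⟩
  have : Subsingleton Γ(X, f ⁻¹ᵁ V) := by rw [hbot]; infer_instance
  have : Subsingleton Γ(Y, V) := (bijective_app f h V).1.subsingleton
  exact one_ne_zero (α := Y.presheaf.stalk y)
    ((map_one (Y.presheaf.germ V y hy).hom).symm.trans
      ((congrArg (Y.presheaf.germ V y hy) (Subsingleton.elim 1 0)).trans (map_zero _)))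

theorem isIntegral_of_fibration [IsProper f] (h : ∀ V : Y.Opens, IsIso (f.app V)) [IsIntegral X] :
    IsIntegral Y := by
  have := surjective_of_fibration f h
  refine { nonempty := ⟨f (genericPoint X)⟩, component_integral := fun V _ => ?_ }
  obtain ⟨⟨y, hy⟩⟩ := ‹Nonempty V›
  obtain ⟨x, rfl⟩ := f.surjective y
  haveI : Nonempty (f ⁻¹ᵁ V) := ⟨⟨x, hy⟩⟩
  exact (bijective_app f h V).1.isDomain (f.app V).hom

/-- sections over an irreducible open of a scheme with normal stalks -/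
theorem isDomain_and_isIntegrallyClosed_of_irreducible (hX : Pi1.IsNormalScheme X) (U : X.Opens)
    [IrreducibleSpace U] : IsDomain Γ(X, U) ∧ IsIntegrallyClosed Γ(X, U) := by
  have hst : ∀ y : (U : Scheme.{u}), IsDomain ((U : Scheme.{u}).presheaf.stalk y) ∧
      IsIntegrallyClosed ((U : Scheme.{u}).presheaf.stalk y) := fun y => by
    obtain ⟨h1, h2⟩ := hX y.1
    let e := (U.stalkIso y).commRingCatIsoToRingEquiv
    exact ⟨e.toMulEquiv.isDomain, IsIntegrallyClosed.of_equiv e.symm⟩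
  haveI : ∀ y : (U : Scheme.{u}), _root_.IsReduced ((U : Scheme.{u}).presheaf.stalk y) := fun y =>
    haveI := (hst y).1; inferInstance
  haveI : IsReduced (U : Scheme.{u}) := isReduced_of_isReduced_stalk _
  haveI : IrreducibleSpace (U : Scheme.{u}) := ‹IrreducibleSpace U›
  haveI : IsIntegral (U : Scheme.{u}) := isIntegral_of_irreducibleSpace_of_isReduced _
  haveI : Nonempty (⊤ : (U : Scheme.{u}).Opens) := ⟨⟨Classical.arbitrary (U : Scheme.{u}), trivial⟩⟩
  have hd : IsDomain Γ(U, ⊤) := inferInstance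
  have hc : IsIntegrallyClosed Γ(U, ⊤) :=
    NormalSec.isIntegrallyClosed_sections ⊤ (fun y _ => (hst y).1) (fun y _ => (hst y).2)
      fun b hb y hy h0 => hb (germ_injective_of_isIntegral _ y hy (h0.trans (map_zero _).symm))
  let e := U.topIso.commRingCatIsoToRingEquiv
  exact ⟨e.symm.toMulEquiv.isDomain, IsIntegrallyClosed.of_equiv e⟩

/-- the preimage of a small neighbourhood is irreducible -/
theorem exists_irreducible_preimage [IsProper f] (h : ∀ V : Y.Opens, IsIso (f.app V))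
    [NoetherianSpace X] (hX : Pi1.IsNormalScheme X) (y : Y) :
    ∃ V : Y.Opens, y ∈ V ∧ ∀ V' : Y.Opens, V' ≤ V → y ∈ V' → IrreducibleSpace ↥(f ⁻¹ᵁ V') := by
  classical
  have := surjective_of_fibration f h
  let C := irreducibleComponents (X : Type u)
  have hC : C.Finite := NoetherianSpace.finite_irreducibleComponents
  have hdom : ∀ x : X, IsDomain (X.presheaf.stalk x) := fun x => (hX x).1
  have hopen : ∀ Z ∈ C, IsOpen Z :=
    Props.Components.isOpen_of_locally_finite hdom fun x => ⟨⊤, trivial, hC.subset fun Z hZ => hZ.1⟩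
  let B := ⋃ Z ∈ {Z ∈ C | y ∉ f '' Z}, f '' Z
  have hB : IsClosed B := (hC.subset fun Z hZ => hZ.1).isClosed_biUnion fun Z hZ =>
    f.isClosedMap _ (isClosed_of_mem_irreducibleComponents Z hZ.1)
  let V₀ : Y.Opens := ⟨Bᶜ, hB.isOpen_compl⟩
  have hyV₀ : y ∈ V₀ := fun hy => by
    obtain ⟨Z, hZ, hyZ⟩ := Set.mem_iUnion₂.mp hy
    exact hZ.2 hyZ
  obtain ⟨x₀, hx₀⟩ := f.surjective y
  obtain ⟨Z₀, ⟨hZ₀, hxZ₀⟩, -⟩ := Props.Components.existsUnique_component hdom x₀
  let U₁ : X.Opens := ⟨Z₀, hopen Z₀ hZ₀⟩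
  let U₂ : X.Opens := ⟨Z₀ᶜ, (isClosed_of_mem_irreducibleComponents Z₀ hZ₀).isOpen_compl⟩
  let W : Bool → X.Opens := fun b => bif b then f ⁻¹ᵁ V₀ ⊓ U₁ else f ⁻¹ᵁ V₀ ⊓ U₂
  have hW : ∀ b, W b ≤ f ⁻¹ᵁ V₀ := fun b => by cases b <;> exact inf_le_left
  have hcov : f ⁻¹ᵁ V₀ ≤ ⨆ b, W b := fun x hx => by
    by_cases hxZ : x ∈ Z₀
    · exact Opens.mem_iSup.2 ⟨true, hx, hxZ⟩
    · exact Opens.mem_iSup.2 ⟨false, hx, hxZ⟩
  let sf : ∀ b, Γ(X, W b) := fun b => match b with | true => 1 | false => 0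
  have hdisj : ∀ (i j : Bool), i ≠ j → W i ⊓ W j = ⊥ := fun i j hij => le_bot_iff.mp fun x hx => by
    cases i <;> cases j <;> first | exact (hij rfl).elim | exact (hx.1.2 hx.2.2) | exact (hx.2.2 hx.1.2)
  have hglue : ∃ e : Γ(X, f ⁻¹ᵁ V₀), ∀ b, X.presheaf.map (homOfLE (hW b)).op e = sf b := by
    obtain ⟨e, he, -⟩ := TopCat.Sheaf.existsUnique_gluing' X.sheaf W (f ⁻¹ᵁ V₀)
      (fun b => homOfLE (hW b)) hcov sf (fun i j => by
        by_cases hij : i = j
        · subst hij; rfl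
        · have : Subsingleton Γ(X, W i ⊓ W j) := by rw [hdisj i j hij]; infer_instance
          exact this.elim _ _)
    exact ⟨e, he⟩
  obtain ⟨e, he⟩ := hglue
  obtain ⟨e', he'⟩ := (bijective_app f h V₀).2 e
  have hgerm : ∀ (b : Bool) (x : X) (hx : x ∈ W b),
      X.presheaf.germ (f ⁻¹ᵁ V₀) x (hW b hx) e = X.presheaf.germ (W b) x hx (sf b) := fun b x hx => by
    rw [← he b]
    exact (X.presheaf.germ_res_apply (homOfLE (hW b)) x hx _).symm
  have hid : IsIdempotentElem e' := (bijective_app f h V₀).1 (by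
    rw [map_mul, he']
    refine TopCat.Presheaf.section_ext X.sheaf _ _ _ fun x hx => ?_
    obtain ⟨b, hb⟩ := Opens.mem_iSup.mp (hcov hx)
    show X.presheaf.germ (f ⁻¹ᵁ V₀) x hx (e * e) = X.presheaf.germ (f ⁻¹ᵁ V₀) x hx e
    rw [map_mul, show X.presheaf.germ (f ⁻¹ᵁ V₀) x hx e = _ from hgerm b x hb, ← map_mul]
    cases b <;> simp [sf])
  have hor : Y.presheaf.germ V₀ y hyV₀ e' = 0 ∨ Y.presheaf.germ V₀ y hyV₀ e' = 1 := by
    have hi := (hid.map (Y.presheaf.germ V₀ y hyV₀).hom).mul_one_sub_self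
    rcases IsLocalRing.isUnit_or_isUnit_one_sub_self (Y.presheaf.germ V₀ y hyV₀ e') with hu | hu
    · exact Or.inr (sub_eq_zero.mp (hu.mul_right_eq_zero.mp hi)).symm
    · exact Or.inl (hu.mul_left_eq_zero.mp hi)
  rcases hor with h0 | h1
  · exfalso
    subst hx₀
    have := congrArg (f.stalkMap x₀) h0
    rw [Scheme.Hom.germ_stalkMap_apply, map_zero, he',
      hgerm true x₀ ⟨hyV₀, hxZ₀⟩] at this
    exact one_ne_zero (((map_one (X.presheaf.germ (W true) x₀ ⟨hyV₀, hxZ₀⟩).hom).symm).trans this)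
  · obtain ⟨V₁, hyV₁, i₁, i₂, hV₁⟩ := Y.presheaf.germ_eq y hyV₀ hyV₀ e' 1
      (h1.trans (map_one (Y.presheaf.germ V₀ y hyV₀).hom).symm)
    refine ⟨V₁, hyV₁, fun V' hV' hyV' => ?_⟩
    have hsub : ((f ⁻¹ᵁ V' : X.Opens) : Set X) ⊆ Z₀ := fun x hx => by
      by_contra hxZ
      have hx0 : x ∈ W false := ⟨i₁.le (hV' hx), hxZ⟩
      have h2 : X.presheaf.germ (f ⁻¹ᵁ V₀) x (i₁.le (hV' hx)) e = 1 := by
        rw [← he', ← Scheme.Hom.germ_stalkMap_apply]
        have := congrArg (Y.presheaf.germ V₁ (f x) (hV' hx)) hV₁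
        rw [TopCat.Presheaf.germ_res_apply, TopCat.Presheaf.germ_res_apply, map_one] at this
        rw [this, map_one]
      rw [hgerm false x hx0] at h2
      exact one_ne_zero (h2.symm.trans (map_zero (X.presheaf.germ (W false) x hx0).hom))
    obtain ⟨x, hx⟩ := f.surjective y
    have hirr : IsIrreducible ((f ⁻¹ᵁ V' : X.Opens) : Set X) :=
      ⟨⟨x, show f x ∈ V' from hx ▸ hyV'⟩, fun u v hu hv ⟨a, ha, hau⟩ ⟨b, hb, hbv⟩ => by
        obtain ⟨c, -, ⟨hcu, hcU⟩, ⟨hcv, -⟩⟩ := hZ₀.1.2 (u ∩ (f ⁻¹ᵁ V' : X.Opens))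
          (v ∩ (f ⁻¹ᵁ V' : X.Opens)) (hu.inter (f ⁻¹ᵁ V').2) (hv.inter (f ⁻¹ᵁ V').2)
          ⟨a, hsub ha, hau, ha⟩ ⟨b, hsub hb, hbv, hb⟩
        exact ⟨c, hcU, hcu, hcv⟩⟩
    exact isIrreducible_iff_irreducibleSpace.mp hirr

/-- normality descends along fibrations -/
theorem isNormalScheme_of_fibration [IsProper f] (h : ∀ V : Y.Opens, IsIso (f.app V))
    [NoetherianSpace X] (hX : Pi1.IsNormalScheme X) : Pi1.IsNormalScheme Y := fun y => by
  obtain ⟨V₁, hyV₁, hV₁⟩ := exists_irreducible_preimage f h hX y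
  obtain ⟨_, ⟨V, hV, rfl⟩, hyV, hVV₁⟩ :=
    Y.isBasis_affineOpens.exists_subset_of_mem_open hyV₁ V₁.2
  replace hV : IsAffineOpen V := hV
  haveI : IrreducibleSpace ((f ⁻¹ᵁ V : X.Opens) : Scheme.{u}) := hV₁ V hVV₁ hyV
  obtain ⟨hd, hc⟩ := isDomain_and_isIntegrallyClosed_of_irreducible hX (f ⁻¹ᵁ V)
  let e := RingEquiv.ofBijective (f.app V).hom (bijective_app f h V)
  haveI : IsDomain Γ(Y, V) := e.toMulEquiv.isDomain
  haveI : IsIntegrallyClosed Γ(Y, V) := IsIntegrallyClosed.of_equiv e.symm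
  let := (Y.presheaf.germ V y hyV).hom.toAlgebra
  have hloc : IsLocalization.AtPrime (Y.presheaf.stalk y) (hV.primeIdealOf ⟨y, hyV⟩).asIdeal :=
    hV.isLocalization_stalk ⟨y, hyV⟩
  exact ⟨IsLocalization.isDomain_of_le_nonZeroDivisors (S := Y.presheaf.stalk y)
      (Ideal.primeCompl_le_nonZeroDivisors (hV.primeIdealOf ⟨y, hyV⟩).asIdeal),
    isIntegrallyClosed_of_isLocalization (Y.presheaf.stalk y) _
      (Ideal.primeCompl_le_nonZeroDivisors (hV.primeIdealOf ⟨y, hyV⟩).asIdeal)⟩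

end Groth.Agent.Fibration

namespace Groth.Agent.Fibration

theorem noetherianSpace_of_proper {X : Scheme.{u}} {k : Type u} [CommRing k] [IsNoetherianRing k]
    (p : X ⟶ Spec (CommRingCat.of k)) [IsProper p] : NoetherianSpace X := by
  haveI := LocallyOfFiniteType.isLocallyNoetherian p
  haveI := QuasiCompact.compactSpace_of_compactSpace p
  haveI : IsNoetherian X := ⟨⟩
  infer_instance

end Groth.Agent.Fibration
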