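import Groth.Agent.Fibration.Basic
import Groth.Agent.GITLib.RigidProper
import Mathlib.Topology.Sheaves.SheafCondition.OpensLeCover

/-!
# Fibrations are stable under flat base change
-/

set_option autoImplicit false
set_option backward.isDefEq.respectTransparency.types false

universe u

open CategoryTheory CategoryTheory.Limits AlgebraicGeometry TopologicalSpace

namespace Groth.Agent.Fibration

theorem isIso_morphismRestrict_appTop {X Y : Scheme.{u}} (f : X ⟶ Y) (V : Y.Opens) [IsIso (f.app V)] :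
    IsIso (f ∣_ V).appTop := by
  rw [Scheme.Hom.appTop, morphismRestrict_app]
  have key : ∀ U : Y.Opens, U = V → IsIso (f.app U) := fun U h => by subst h; infer_instance
  exact @IsIso.comp_isIso _ _ _ _ _ _ _ (key _ V.ι_image_top) (Functor.map_isIso _ _)

theorem isIso_app_of_appTop {X Y : Scheme.{u}} (f : X ⟶ Y) (V : Y.Opens) [h : IsIso (f ∣_ V).appTop] :
    IsIso (f.app V) := by
  rw [Scheme.Hom.appTop, morphismRestrict_app] at h
  have key : ∀ U : Y.Opens, U = V → IsIso (f.app U) → IsIso (f.app V) := fun U h h' => by subst h; exact h'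
  exact key _ V.ι_image_top (@IsIso.of_isIso_comp_right _ _ _ _ _ _ _ (Functor.map_isIso _ _) h)

theorem isIso_app_baseChange {X Y X' Y' : Scheme.{u}} {f : X ⟶ Y} {g : Y' ⟶ Y} {gX : X' ⟶ X} {f' : X' ⟶ Y'}
    (H : IsPullback gX f' f g) [QuasiCompact f] [QuasiSeparated f] [Flat g]
    (h : ∀ V : Y.Opens, IsIso (f.app V)) (U : Y'.Opens) : IsIso (f'.app U) := by
  let φ : Y'.sheaf ⟶ (TopCat.Sheaf.pushforward _ f'.base).obj X'.sheaf := ⟨f'.c⟩
  have hφ : IsIso φ := by
    refine TopCat.Sheaf.isIso_iff_isIso_basis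
      (B := fun W : {W : Y'.affineOpens // ∃ V : Y.affineOpens, W.1 ≤ g ⁻¹ᵁ V.1} => W.1.1) ?_ ?_
    · refine Opens.isBasis_iff_nbhd.2 fun {U x} hx => ?_
      obtain ⟨V, hV, hxV, -⟩ := exists_isAffineOpen_mem_and_subset (Opens.mem_top (g x))
      obtain ⟨W, hW, hxW, hWU⟩ := exists_isAffineOpen_mem_and_subset (U := U ⊓ g ⁻¹ᵁ V) (x := x) ⟨hx, hxV⟩
      exact ⟨W, ⟨⟨⟨W, hW⟩, ⟨V, hV⟩, fun z hz => (hWU hz).2⟩, rfl⟩, hxW, fun z hz => (hWU hz).1⟩
    · rintro ⟨⟨W, hW⟩, ⟨V, hV⟩, e⟩
      show IsIso (f'.app W)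
      haveI : IsAffine W := hW
      haveI : IsAffine V := hV
      haveI := h V
      haveI := isIso_morphismRestrict_appTop f V
      let r := g.resLE V W e
      have hr : r ≫ V.ι = W.ι ≫ g := g.resLE_comp_ι e
      have P1 := (isPullback_morphismRestrict f' W).flip.paste_horiz H
      have P2 := (isPullback_morphismRestrict f V).flip
      rw [← hr] at P1
      let s := P2.lift ((f' ⁻¹ᵁ W).ι ≫ gX) ((f' ∣_ W) ≫ r) (by rw [Category.assoc]; exact P1.w)
      rw [← P2.lift_fst _ _ (show ((f' ⁻¹ᵁ W).ι ≫ gX) ≫ f = ((f' ∣_ W) ≫ r) ≫ V.ι by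
        rw [Category.assoc]; exact P1.w)] at P1
      have P3 := IsPullback.of_right P1 (P2.lift_snd _ _ _) P2
      haveI : Flat r := inferInstance
      haveI : QuasiCompact (f ∣_ V) := inferInstance
      haveI : QuasiSeparated (f ∣_ V) := inferInstance
      haveI : CompactSpace (f ⁻¹ᵁ V : X.Opens) := QuasiCompact.compactSpace_of_compactSpace (f ∣_ V)
      haveI : QuasiSeparatedSpace (f ⁻¹ᵁ V : X.Opens) := quasiSeparatedSpace_of_quasiSeparated (f ∣_ V)
      haveI : IsIso (f' ∣_ W).appTop := GITLib.Rigid.isIso_appTop_of_isPullback P3 inferInstance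
      exact isIso_app_of_appTop f' W
  exact (NatTrans.isIso_iff_isIso_app _).1 ((TopCat.Sheaf.forget _ _).map_isIso φ) (Opposite.op U)

end Groth.Agent.Fibration
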