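import Groth.Agent.ProperFin.Descend
import Groth.Prelude.Def_ClSub2

/-!
`H^1(Y, f_* M) ↪ H^1(X, M)`.
-/

universe u

open CategoryTheory Limits Opposite TopologicalSpace AlgebraicGeometry
open Groth.Agent.CohAff

noncomputable section

namespace Groth.Agent.Fibration

open ProperFin

variable {X Y : Scheme.{u}} (f : X ⟶ Y) {A : Type u} [Field A] [X.Over (Spec (CommRingCat.of A))]
  [Y.Over (Spec (CommRingCat.of A))]

theorem finrank_h1_push_le
    (w : f ≫ (Y ↘ Spec (CommRingCat.of A)) = X ↘ Spec (CommRingCat.of A)) (R : FRes X)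
    [Module.Finite A (Coh.HH X (R.Z 0) 1)] :
    Module.finrank A (Coh.HH Y ((Scheme.Modules.pushforward f).obj (R.Z 0)) 1) ≤
      Module.finrank A (Coh.HH X (R.Z 0) 1) := by
  have hS := seq₁_shortExact f R 0
  let η : Coh.HH Y (Img f R 0) 0 →ₗ[A] Coh.HH X (R.Z 0) 1 :=
    (sect f R w 1).comp (CohLin.overLin A (CohLin.hMap (Abelian.image.ι (R.pP f 0)) 0))
  let δ : Coh.HH Y (Img f R 0) 0 →ₗ[A] Coh.HH Y ((Scheme.Modules.pushforward f).obj (R.Z 0)) 1 :=
    CohLin.overLin A (CohLin.hδ hS 0)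
  have hker : LinearMap.ker η ≤ LinearMap.ker δ := fun x hx => by
    obtain ⟨a, ha⟩ := exists_eq_hMap_of_sect_eq_zero f R w 0 _ hx
    have e : CohLin.hMap (Abelian.factorThruImage (R.pP f 0)) 0 a = x := by
      refine hMap_zero_injective (Abelian.image.ι (R.pP f 0)) ?_
      rw [← CohLin.hMap_comp, Abelian.image.fac]
      exact ha
    rw [LinearMap.mem_ker, ← e]
    exact CohLin.hδ_hMap_g hS a
  have hfl : TopCat.Sheaf.IsFlasque (X := Y.toTopCat)
      (Coh.toAb ((Scheme.Modules.pushforward f).obj (R.J 0))) :=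
    ModShf.isFlasque_of_surjective (X := Y.toTopCat) _ fun {V U} g ↦
      (AddCommGrpCat.epi_iff_surjective _).1 ((R.flasque 0).epi ((Opens.map f.base).map g).op)
  have := subsingleton_of_flasque hfl 0
  have hsurj : Function.Surjective ((LinearMap.ker η).liftQ δ hker) := fun y => by
    obtain ⟨x, hx⟩ := CohLin.exists_hδ_eq hS y (Subsingleton.elim _ _)
    exact ⟨Submodule.Quotient.mk x, hx⟩
  have : Module.Finite A (Coh.HH Y (Img f R 0) 0 ⧸ LinearMap.ker η) :=
    Module.Finite.equiv η.quotKerEquivRange.symm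
  calc Module.finrank A (Coh.HH Y ((Scheme.Modules.pushforward f).obj (R.Z 0)) 1)
      = Module.finrank A (LinearMap.range ((LinearMap.ker η).liftQ δ hker)) := by
        rw [LinearMap.range_eq_top.2 hsurj, finrank_top]
    _ ≤ Module.finrank A (Coh.HH Y (Img f R 0) 0 ⧸ LinearMap.ker η) :=
        LinearMap.finrank_range_le _
    _ = Module.finrank A (LinearMap.range η) := η.quotKerEquivRange.finrank_eq
    _ ≤ _ := Submodule.finrank_le _

/-- `O_Y ≅ f_* O_X` -/
theorem isIso_unitToPush (h : ∀ V : Y.Opens, IsIso (f.app V)) : IsIso (ClSub.unitToPush f) := by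
  rw [Scheme.Modules.Hom.isIso_iff_isIso_app]
  intro V
  have := h V
  rw [ConcreteCategory.isIso_iff_bijective]
  exact ConcreteCategory.bijective_of_isIso (f.app V)

theorem finrank_h1_le
    (w : f ≫ (Y ↘ Spec (CommRingCat.of A)) = X ↘ Spec (CommRingCat.of A))
    (h : ∀ V : Y.Opens, IsIso (f.app V))
    [Module.Finite A (Coh.HH X (Coh.structureModule X) 1)] :
    Module.finrank A (Coh.HH Y (Coh.structureModule Y) 1) ≤
      Module.finrank A (Coh.HH X (Coh.structureModule X) 1) := by
  have := isIso_unitToPush f h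
  let R := FRes.ofMod (Coh.structureModule X)
  have : Module.Finite A (Coh.HH X (R.Z 0) 1) :=
    ‹Module.Finite A (Coh.HH X (Coh.structureModule X) 1)›
  have e : Coh.HH Y (Coh.structureModule Y) 1 ≃ₗ[A]
      Coh.HH Y ((Scheme.Modules.pushforward f).obj (R.Z 0)) 1 :=
    { CohLin.overLin A (CohLin.hIso (asIso (ClSub.unitToPush f)) 1).toLinearMap with
      invFun := (CohLin.hIso (asIso (ClSub.unitToPush f)) 1).symm
      left_inv := (CohLin.hIso (asIso (ClSub.unitToPush f)) 1).symm_apply_apply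
      right_inv := (CohLin.hIso (asIso (ClSub.unitToPush f)) 1).apply_symm_apply }
  rw [e.finrank_eq]
  exact finrank_h1_push_le f w R

end Groth.Agent.Fibration
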